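import Groth.Agent.Lib.DefGlue3.Sections
import Groth.Agent.Lib.DefGlue3.Criteria
import Groth.Prelude.Def_ArtFun4
import Mathlib.RingTheory.Smooth.Fiber

/-! Points of a smooth scheme lift to sections of its deformations. -/

set_option autoImplicit false
set_option linter.style.haveILetI false
set_option backward.isDefEq.respectTransparency.types false

universe u

open CategoryTheory CategoryTheory.Limits AlgebraicGeometry TensorProduct

namespace Groth.Agent.PtSect28

open ArtFun ArtFun.Art ThickAff3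

/-- Nilpotent Nakayama for algebras. -/
theorem finiteType_of_nilpotent {C R : Type u} [CommRing C] [CommRing R] [Algebra C R] (m : Ideal C)
    (hm : IsNilpotent m) [Algebra.FiniteType C (R ⧸ m.map (algebraMap C R))] : Algebra.FiniteType C R := by
  classical
  obtain ⟨s, hs⟩ := ‹Algebra.FiniteType C (R ⧸ m.map (algebraMap C R))›.out
  let π := Ideal.Quotient.mkₐ C (m.map (algebraMap C R))
  have hπ : Function.Surjective π := Ideal.Quotient.mkₐ_surjective C _
  choose l hl using hπ
  let S : Subalgebra C R := Algebra.adjoin C (s.image l : Set R)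
  have hS : ∀ r : R, ∃ t ∈ S, r - t ∈ m.map (algebraMap C R) := fun r => by
    have h1 : π r ∈ S.map π := by
      rw [AlgHom.map_adjoin]
      have : π '' (s.image l : Set R) = s := by
        rw [Finset.coe_image, ← Set.image_comp]
        simp [Function.comp_def, hl]
      rw [this, hs]
      exact Algebra.mem_top
    obtain ⟨t, ht, hte⟩ := h1
    exact ⟨t, ht, Ideal.Quotient.eq.1 hte.symm⟩
  have hstep : ∀ (j : ℕ), ∀ r : R, ∃ t ∈ S, r - t ∈ (m ^ j).map (algebraMap C R) := fun j => by
    induction j with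
    | zero => exact fun r => ⟨0, S.zero_mem, by simp [Ideal.map_top]⟩
    | succ j ih =>
      intro r
      obtain ⟨t, ht, hr⟩ := ih r
      suffices key : ∀ x ∈ (m ^ j).map (algebraMap C R), ∃ t ∈ S, x - t ∈ (m ^ (j + 1)).map (algebraMap C R) by
        obtain ⟨t', ht', h'⟩ := key _ hr
        exact ⟨t + t', S.add_mem ht ht', by rw [← sub_sub]; exact h'⟩
      have key1 : ∀ (a : R), ∀ c ∈ m ^ j,
          ∃ t ∈ S, a * algebraMap C R c - t ∈ (m ^ (j + 1)).map (algebraMap C R) := fun a c hc => by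
        obtain ⟨t', ht', h'⟩ := hS a
        refine ⟨t' * algebraMap C R c, S.mul_mem ht' (S.algebraMap_mem c), ?_⟩
        rw [← sub_mul, pow_succ', Ideal.map_mul]
        exact Ideal.mul_mem_mul h' (Ideal.mem_map_of_mem _ hc)
      intro x hx
      rw [Ideal.map, Ideal.span] at hx
      induction hx using Submodule.span_induction with
      | mem x hx =>
        obtain ⟨c, hc, rfl⟩ := hx
        have := key1 1 c hc
        rwa [one_mul] at this
      | zero => exact ⟨0, S.zero_mem, by simp⟩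
      | add a b _ _ ha hb =>
        obtain ⟨ta, hta, ha'⟩ := ha
        obtain ⟨tb, htb, hb'⟩ := hb
        exact ⟨ta + tb, S.add_mem hta htb, by rw [add_sub_add_comm]; exact Ideal.add_mem _ ha' hb'⟩
      | smul a y hy ih' =>
        obtain ⟨ta, hta, ha'⟩ := hS a
        obtain ⟨ty, hty, hy'⟩ := ih'
        refine ⟨ta * ty, S.mul_mem hta hty, ?_⟩
        rw [show a • y - ta * ty = (a - ta) * y + ta * (y - ty) by rw [smul_eq_mul]; ring]
        refine Ideal.add_mem _ ?_ (Ideal.mul_mem_left _ _ hy')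
        rw [pow_succ', Ideal.map_mul]
        exact Ideal.mul_mem_mul ha' hy
  obtain ⟨N, hN⟩ := hm
  refine ⟨⟨s.image l, eq_top_iff.2 fun r _ => ?_⟩⟩
  obtain ⟨t, ht, hr⟩ := hstep N r
  rw [hN, Ideal.zero_eq_bot, Ideal.map_bot, Ideal.mem_bot, sub_eq_zero] at hr
  exact hr ▸ ht

/-- A flat deformation of a smooth algebra over an Artinian local ring is smooth. -/
theorem smooth_of_fibre {C R k S : Type u} [CommRing C] [IsLocalRing C] [IsArtinianRing C] [CommRing R] [Field k]
    [CommRing S] [Algebra C R] [Algebra C k] [Algebra C S] [Algebra k S] [IsScalarTower C k S]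
    (hk : Function.Surjective (algebraMap C k)) [Module.Flat C R] [Algebra.Smooth k S]
    (q : R →ₐ[C] S) (hq : IsBaseChange k q.toLinearMap) : Algebra.Smooth C R := by
  let m := IsLocalRing.maximalIdeal C
  haveI : (RingHom.ker (algebraMap C k)).IsMaximal := RingHom.ker_isMaximal_of_surjective _ hk
  have hm : RingHom.ker (algebraMap C k) = m := IsLocalRing.eq_maximalIdeal inferInstance
  have hnil : IsNilpotent m := by
    obtain ⟨N, hN⟩ := IsArtinianRing.isNilpotent_jacobson_bot (R := C)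
    refine ⟨N, ?_⟩
    rw [show m = (⊥ : Ideal C).jacobson from (IsLocalRing.jacobson_eq_maximalIdeal ⊥ bot_ne_top).symm]
    exact hN
  let e : k ⊗[C] R ≃ₐ[k] S := AlgEquiv.ofLinearEquiv hq.equiv (by
      rw [Algebra.TensorProduct.one_def, IsBaseChange.equiv_tmul, one_smul]; exact map_one q)
    (LinearMap.map_mul_of_map_mul_tmul fun a b x y => by
      show hq.equiv _ = hq.equiv _ * hq.equiv _
      rw [IsBaseChange.equiv_tmul, IsBaseChange.equiv_tmul, IsBaseChange.equiv_tmul, smul_mul_smul_comm]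
      exact congrArg _ (map_mul q x y))
  haveI : Algebra.Smooth k (k ⊗[C] R) := Algebra.Smooth.of_equiv e.symm
  haveI : Algebra.FiniteType C (R ⧸ m.map (algebraMap C R)) := by
    let f : (C ⧸ m) ≃ₐ[C] k :=
      (Ideal.quotientEquivAlgOfEq C hm.symm).trans (Ideal.quotientKerAlgEquivOfSurjective (f := Algebra.ofId C k) hk)
    haveI : Algebra.FiniteType C k := Algebra.FiniteType.of_surjective (Algebra.ofId C k) hk
    haveI : Algebra.FiniteType C (k ⊗[C] R) :=
      Algebra.FiniteType.trans (R := C) (S := k) (A := k ⊗[C] R) inferInstance inferInstance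
    have e' : (R ⧸ m.map (algebraMap C R)) ≃ₐ[C] k ⊗[C] R :=
      ((Algebra.TensorProduct.quotIdealMapEquivTensorQuot R m).restrictScalars C).trans
        ((Algebra.TensorProduct.comm C R (C ⧸ m)).trans (Algebra.TensorProduct.congr f AlgEquiv.refl))
    exact Algebra.FiniteType.of_surjective e'.symm.toAlgHom e'.symm.surjective
  haveI := finiteType_of_nilpotent (R := R) m hnil
  haveI : Algebra.FinitePresentation C R := Algebra.FinitePresentation.of_finiteType.1 inferInstance
  refine Algebra.Smooth.of_formallySmooth_fiber fun p hp => ?_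
  haveI : p.IsMaximal := IsArtinianRing.isMaximal_of_isPrime p
  have hpm : RingHom.ker (algebraMap C k) = p := hm.trans (IsLocalRing.eq_maximalIdeal inferInstance).symm
  let g : k →+* p.ResidueField := (algebraMap (C ⧸ p) p.ResidueField).comp
    ((Ideal.quotientKerAlgEquivOfSurjective (f := Algebra.ofId C k) hk).symm.trans
      (Ideal.quotientEquivAlgOfEq C hpm)).toAlgHom.toRingHom
  letI := g.toAlgebra
  let ψ : k →ₐ[C] C ⧸ p := ((Ideal.quotientKerAlgEquivOfSurjective (f := Algebra.ofId C k) hk).symm.trans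
      (Ideal.quotientEquivAlgOfEq C hpm)).toAlgHom
  haveI : IsScalarTower C k p.ResidueField := IsScalarTower.of_algebraMap_eq fun c => by
    refine Eq.symm ((congrArg (algebraMap (C ⧸ p) p.ResidueField) (ψ.commutes c)).trans ?_)
    exact (IsScalarTower.algebraMap_apply C (C ⧸ p) p.ResidueField c).symm
  exact Algebra.FormallySmooth.of_equiv
    ((Algebra.TensorProduct.cancelBaseChange C k p.ResidueField p.ResidueField R) :
      p.ResidueField ⊗[k] (k ⊗[C] R) ≃ₐ[p.ResidueField] p.ResidueField ⊗[C] R)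

variable {Λ : Type u} {k : Type u} [CommRing Λ] [Field k] [Algebra Λ k] {X : Scheme.{u}} {x : X ⟶ specPt k}

/-- A rational point of a smooth scheme lifts to a section of any of its deformations. -/
theorem exists_section [Smooth x] {A : Art Λ k} (ξ : ArtFun.DefSch X x A) (P : specPt k ⟶ X) (hP : P ≫ x = 𝟙 _) :
    ∃ σ : spec A ⟶ ξ.total, σ ≫ ξ.f = 𝟙 _ ∧ P ≫ ξ.i = specRes A ≫ σ := by
  haveI := ξ.flat
  obtain ⟨W, hW, hzW, -⟩ := exists_isAffineOpen_mem_and_subset (X := ξ.total)
    (x := (P ≫ ξ.i) (IsLocalRing.closedPoint k)) (U := ⊤) trivial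
  haveI : IsAffineHom (specRes A) := inferInstance
  haveI : IsAffineHom ξ.i := MorphismProperty.of_isPullback ξ.isPullback.flip (inferInstance : IsAffineHom (specRes A))
  have hV : IsAffineOpen (ξ.i ⁻¹ᵁ W) := hW.preimage ξ.i
  letI : Algebra A Γ(ξ.total, W) := (str ξ.f W).toAlgebra
  letI : Algebra A k := A.res.toRingHom.toAlgebra
  letI : Algebra k Γ(X, ξ.i ⁻¹ᵁ W) := (str x (ξ.i ⁻¹ᵁ W)).toAlgebra
  letI : Algebra A Γ(X, ξ.i ⁻¹ᵁ W) := ((str x (ξ.i ⁻¹ᵁ W)).comp A.res.toRingHom).toAlgebra
  haveI : IsScalarTower A k Γ(X, ξ.i ⁻¹ᵁ W) := IsScalarTower.of_algebraMap_eq fun _ => rfl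
  haveI : Module.Flat A Γ(ξ.total, W) := DefGlue3.flat_str ξ.f hW
  have w : ξ.i ≫ ξ.f = x ≫ Spec.map (CommRingCat.ofHom A.res.toRingHom) := ξ.isPullback.w
  let q : Γ(ξ.total, W) →ₐ[A] Γ(X, ξ.i ⁻¹ᵁ W) :=
    { (ξ.i.appLE W (ξ.i ⁻¹ᵁ W) le_rfl).hom with
      commutes' := fun c => DefGlue3.appLE_str ξ.f x A.res.toRingHom ξ.i w W _ le_rfl c }
  have hq : IsBaseChange k q.toLinearMap :=
    DefGlue3.isBaseChange (f := ξ.f) (f' := x) (φ := A.res.toRingHom) (g := ξ.i) ξ.isPullback hW rfl rfl
      (fun c y => Algebra.smul_def c y) (fun d y => Algebra.smul_def d y) q.toLinearMap (fun _ => rfl)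
  haveI : Algebra.Smooth k Γ(X, ξ.i ⁻¹ᵁ W) := by
    have h := HasRingHomProperty.appLE @Smooth x ‹_› ⟨⊤, isAffineOpen_top _⟩ ⟨ξ.i ⁻¹ᵁ W, hV⟩ le_top
    have h' : (str x (ξ.i ⁻¹ᵁ W)).Smooth := by
      rw [str, CommRingCat.hom_comp]
      exact RingHom.Smooth.respectsIso.right _
        (Scheme.ΓSpecIso (CommRingCat.of k)).symm.commRingCatIsoToRingEquiv h
    exact h'
  haveI : Algebra.Smooth A Γ(ξ.total, W) := smooth_of_fibre (k := k) A.res_surjective q hq
  have hfs : hW.fromSpec ≫ ξ.f = Spec.map (CommRingCat.ofHom (str ξ.f W)) := by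
    rw [← IsAffineOpen.SpecMap_appLE_fromSpec ξ.f (isAffineOpen_top _) hW le_top]
    simp [str, IsAffineOpen.fromSpec_top, ← Spec.map_comp]
  let h : specPt k ⟶ Spec Γ(ξ.total, W) := IsOpenImmersion.lift hW.fromSpec (P ≫ ξ.i) (by
    rw [hW.range_fromSpec]
    rintro _ ⟨z, rfl⟩
    rw [Subsingleton.elim z (IsLocalRing.closedPoint k)]
    exact hzW)
  have hh : h ≫ hW.fromSpec = P ≫ ξ.i := IsOpenImmersion.lift_fac _ _ _
  have hχ : CommRingCat.ofHom (str ξ.f W) ≫ Spec.preimage h = CommRingCat.ofHom A.res.toRingHom := by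
    apply Spec.map_injective
    rw [Spec.map_comp, Spec.map_preimage, ← hfs, reassoc_of% hh, w, reassoc_of% hP]
  let χ : Γ(ξ.total, W) →ₐ[A] k :=
    { (Spec.preimage h).hom with commutes' := fun c => congrArg (fun φ => φ.hom c) hχ }
  have hnil : IsNilpotent (RingHom.ker ((Algebra.ofId A k : A →ₐ[A] k) : A →+* k)) := by
    haveI : (RingHom.ker (algebraMap A k)).IsMaximal := RingHom.ker_isMaximal_of_surjective _ A.res_surjective
    obtain ⟨N, hN⟩ := IsArtinianRing.isNilpotent_jacobson_bot (R := A)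
    refine ⟨N, le_bot_iff.1 ((Ideal.pow_right_mono ?_ N).trans hN.le)⟩
    exact le_of_eq ((IsLocalRing.eq_maximalIdeal ‹_›).trans (IsLocalRing.jacobson_eq_maximalIdeal ⊥ bot_ne_top).symm)
  let F : Γ(ξ.total, W) →ₐ[A] A := Algebra.FormallySmooth.liftOfSurjective χ (Algebra.ofId A k) A.res_surjective hnil
  have hF : ∀ y, A.res (F y) = χ y := fun y =>
    Algebra.FormallySmooth.liftOfSurjective_apply χ (Algebra.ofId A k) A.res_surjective hnil y
  refine ⟨Spec.map (CommRingCat.ofHom F.toRingHom) ≫ hW.fromSpec, ?_, ?_⟩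
  · rw [Category.assoc, hfs, ← Spec.map_comp, ← CommRingCat.ofHom_comp,
      show F.toRingHom.comp (str ξ.f W) = RingHom.id A from RingHom.ext F.commutes,
      CommRingCat.ofHom_id, Spec.map_id]
  · rw [← hh, ← Category.assoc]
    congr 1
    rw [← Spec.map_preimage h, ← Spec.map_comp, ← CommRingCat.ofHom_comp]
    refine congrArg Spec.map ?_
    exact CommRingCat.hom_ext (RingHom.ext fun y => (hF y).symm)

end Groth.Agent.PtSect28
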